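import Groth.Agent.ToposQC.Filt
import Mathlib.Topology.Sheaves.SheafCondition.UniqueGluing
import Mathlib.Topology.Sets.Opens
import Mathlib.CategoryTheory.Sites.Spaces

/-!
Sections of filtered colimits of sheaves of sets on a topological space.
-/

set_option autoImplicit false

universe u

open CategoryTheory CategoryTheory.Limits TopologicalSpace Opposite

namespace Groth.Agent.ShSpColim.Basic

variable {X : TopCat.{u}} {I : Type u} [SmallCategory I]
  {D : I ⥤ CategoryTheory.Sheaf (Opens.grothendieckTopology X) (Type u)} {c : Cocone D}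

/-- the map on sections into the colimit -/
abbrev m (c : Cocone D) (k : I) (V : Opens X) : (D.obj k).obj.obj (op V) → c.pt.obj.obj (op V) :=
  (c.ι.app k).hom.app (op V)

theorem m_map (k : I) {V W : Opens X} (h : W ≤ V) (a : (D.obj k).obj.obj (op V)) :
    m c k W ((D.obj k).obj.map (homOfLE h).op a) = c.pt.obj.map (homOfLE h).op (m c k V a) :=
  NatTrans.naturality_apply (c.ι.app k).hom (homOfLE h).op a

theorem m_stage {k l : I} (h : k ⟶ l) (V : Opens X) (a : (D.obj k).obj.obj (op V)) :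
    m c l V ((D.map h).hom.app (op V) a) = m c k V a :=
  ConcreteCategory.congr_hom (NatTrans.congr_app (congrArg (fun q => q.hom) (c.w h)) (op V)) a

/-- equality in the colimit holds locally at a stage -/
theorem eq_stage [IsFiltered I] (hc : IsColimit c) {k : I} {V : Opens X} (a b : (D.obj k).obj.obj (op V))
    (h : m c k V a = m c k V b) (p : X) (hp : p ∈ V) :
    ∃ (W : Opens X) (hW : W ≤ V) (l : I) (φ : k ⟶ l), p ∈ W ∧
      (D.map φ).hom.app (op W) ((D.obj k).obj.map (homOfLE hW).op a) =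
        (D.map φ).hom.app (op W) ((D.obj k).obj.map (homOfLE hW).op b) := by
  obtain ⟨η, hη, hinj, -⟩ := Groth.Agent.ToposQC.exists_desc hc
  let P := D ⋙ sheafToPresheaf (Opens.grothendieckTopology X) (Type u)
  let A := (colimit.ι P k).app (op V) a
  let B := (colimit.ι P k).app (op V) b
  have e : ∀ x, η.app (op V) ((colimit.ι P k).app (op V) x) = m c k V x := fun x =>
    ConcreteCategory.congr_hom (NatTrans.congr_app (hη k) (op V)) x
  obtain ⟨W, f, hf, hpW⟩ := Presheaf.equalizerSieve_mem (Opens.grothendieckTopology X) η A B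
    ((e a).trans (h.trans (e b).symm)) p hp
  have hev : IsColimit (((evaluation (Opens X)ᵒᵖ (Type u)).obj (op W)).mapCocone (colimit.cocone P)) :=
    isColimitOfPreserves _ (colimit.isColimit P)
  obtain ⟨l, φ, hφ⟩ := (Types.FilteredColimit.isColimit_eq_iff' hev
    ((D.obj k).obj.map f.op a) ((D.obj k).obj.map f.op b)).1
    ((NatTrans.naturality_apply (colimit.ι P k) f.op a).trans
      (hf.trans (NatTrans.naturality_apply (colimit.ι P k) f.op b).symm))
  exact ⟨W, f.le, l, φ, hpW, hφ⟩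

theorem inj_of_injective [IsFiltered I] (hc : IsColimit c)
    (hD : ∀ (i j : I) (h : i ⟶ j) (V : Opens X), Function.Injective ((D.map h).hom.app (op V)))
    (k : I) (V : Opens X) : Function.Injective (m c k V) := by
  intro a b h
  choose W hW l φ hp heq using fun p : V => eq_stage hc a b h p.1 p.2
  exact TopCat.Sheaf.eq_of_locally_eq' (D.obj k) W V (fun p => homOfLE (hW p))
    (fun q hq => Opens.mem_iSup.2 ⟨⟨q, hq⟩, hp _⟩) a b fun p => hD k (l p) (φ p) (W p) (heq p)

theorem eq_of_compact [IsFiltered I] (hc : IsColimit c) {k : I} {V : Opens X} (hV : IsCompact (V : Set X))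
    (a b : (D.obj k).obj.obj (op V)) (h : m c k V a = m c k V b) :
    ∃ (l : I) (φ : k ⟶ l), (D.map φ).hom.app (op V) a = (D.map φ).hom.app (op V) b := by
  classical
  choose W hW l φ hp heq using fun p : V => eq_stage hc a b h p.1 p.2
  obtain ⟨t, ht⟩ := hV.elim_finite_subcover (fun p : V => (W p : Set X)) (fun p => (W p).isOpen)
    (fun q hq => Set.mem_iUnion.2 ⟨⟨q, hq⟩, hp _⟩)
  have key : ∀ s : Finset V, ∃ (L : I) (ψ : k ⟶ L), ∀ p ∈ s,
      (D.map ψ).hom.app (op (W p)) ((D.obj k).obj.map (homOfLE (hW p)).op a) =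
        (D.map ψ).hom.app (op (W p)) ((D.obj k).obj.map (homOfLE (hW p)).op b) := fun s => by
    induction s using Finset.induction_on with
    | empty => exact ⟨k, 𝟙 k, fun p hp => absurd hp (Finset.notMem_empty p)⟩
    | insert q s _ ih =>
      obtain ⟨L, ψ, hψ⟩ := ih
      obtain ⟨M, f, g, hfg⟩ := IsFiltered.span ψ (φ q)
      have e : ∀ {Z : I} (α : k ⟶ Z) (β : Z ⟶ M) (p : V) (x : (D.obj k).obj.obj (op (W p))),
          (D.map (α ≫ β)).hom.app (op (W p)) x = (D.map β).hom.app (op (W p)) ((D.map α).hom.app (op (W p)) x) :=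
        fun α β p x => by rw [Functor.map_comp]; rfl
      refine ⟨M, ψ ≫ f, fun p hp => ?_⟩
      rcases Finset.mem_insert.1 hp with rfl | hp'
      · rw [hfg, e, e, heq p]
      · rw [e, e, hψ p hp']
  obtain ⟨L, ψ, hψ⟩ := key t
  refine ⟨L, ψ, TopCat.Sheaf.eq_of_locally_eq' (D.obj L) (fun p : t => W p.1) V (fun p => homOfLE (hW p.1))
    (fun q hq => ?_) _ _ fun p => ?_⟩
  · obtain ⟨i, hi, hqi⟩ := Set.mem_iUnion₂.1 (ht hq)
    exact Opens.mem_iSup.2 ⟨⟨i, hi⟩, hqi⟩
  · exact (NatTrans.naturality_apply (D.map ψ).hom _ a).symm.trans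
      ((hψ p.1 p.2).trans (NatTrans.naturality_apply (D.map ψ).hom _ b))

/-- every section of the colimit comes locally from the stages -/
theorem loc_surj [IsFiltered I] (hc : IsColimit c) {U : Opens X} (s : c.pt.obj.obj (op U)) (p : X) (hp : p ∈ U) :
    ∃ (W : Opens X) (hW : W ≤ U) (i : I) (x : (D.obj i).obj.obj (op W)),
      p ∈ W ∧ m c i W x = c.pt.obj.map (homOfLE hW).op s := by
  obtain ⟨η, hη, -, hsurj⟩ := Groth.Agent.ToposQC.exists_desc hc
  let P := D ⋙ sheafToPresheaf (Opens.grothendieckTopology X) (Type u)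
  obtain ⟨W, f, ⟨y, hy⟩, hpW⟩ := Presheaf.imageSieve_mem (Opens.grothendieckTopology X) η s p hp
  have hev : IsColimit (((evaluation (Opens X)ᵒᵖ (Type u)).obj (op W)).mapCocone (colimit.cocone P)) :=
    isColimitOfPreserves _ (colimit.isColimit P)
  obtain ⟨i, x, hx⟩ := Types.jointly_surjective_of_isColimit hev y
  subst hx
  exact ⟨W, f.le, i, x, hpW,
    (ConcreteCategory.congr_hom (NatTrans.congr_app (hη i) (op W)) x).symm.trans hy⟩

/-- gluing at one stage -/
theorem mem_range_of_glue (k : I) {U : Opens X} (s : c.pt.obj.obj (op U)) {ι : Type*} (W : ι → Opens X)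
    (hW : ∀ j, W j ≤ U) (hcov : U ≤ iSup W) (t : ∀ j, (D.obj k).obj.obj (op (W j)))
    (ht : ∀ j, m c k (W j) (t j) = c.pt.obj.map (homOfLE (hW j)).op s)
    (hcomp : ∀ i j, (D.obj k).obj.map (Opens.infLELeft (W i) (W j)).op (t i) =
      (D.obj k).obj.map (Opens.infLERight (W i) (W j)).op (t j)) :
    ∃ x, m c k U x = s := by
  obtain ⟨x, hx, -⟩ := TopCat.Sheaf.existsUnique_gluing' (F := D.obj k) W U (fun j => homOfLE (hW j)) hcov (sf := t) (fun i j => hcomp i j)
  refine ⟨x, TopCat.Sheaf.eq_of_locally_eq' c.pt W U (fun j => homOfLE (hW j)) hcov _ _ fun j => ?_⟩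
  exact ((m_map k (hW j) x).symm.trans (congrArg (m c k (W j)) (hx j))).trans (ht j)

theorem push {k L : I} (ψ : k ⟶ L) {V W : Opens X} (h : W ≤ V) (a : (D.obj k).obj.obj (op V)) :
    (D.obj L).obj.map (homOfLE h).op ((D.map ψ).hom.app (op V) a) =
      (D.map ψ).hom.app (op W) ((D.obj k).obj.map (homOfLE h).op a) :=
  (NatTrans.naturality_apply (D.map ψ).hom (homOfLE h).op a).symm

/-- finitely many equalities at later stages happen at a common one -/
theorem common_eq [IsFiltered I] {L : I} {κ : Type*} [Finite κ] (O : κ → Opens X)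
    (a b : ∀ q, (D.obj L).obj.obj (op (O q)))
    (h : ∀ q, ∃ (l : I) (φ : L ⟶ l), (D.map φ).hom.app (op (O q)) (a q) = (D.map φ).hom.app (op (O q)) (b q)) :
    ∃ (M : I) (ψ : L ⟶ M), ∀ q, (D.map ψ).hom.app (op (O q)) (a q) = (D.map ψ).hom.app (op (O q)) (b q) := by
  classical
  haveI := Fintype.ofFinite κ
  suffices ∀ s : Finset κ, ∃ (M : I) (ψ : L ⟶ M), ∀ q ∈ s,
      (D.map ψ).hom.app (op (O q)) (a q) = (D.map ψ).hom.app (op (O q)) (b q) by
    obtain ⟨M, ψ, hψ⟩ := this Finset.univ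
    exact ⟨M, ψ, fun q => hψ q (Finset.mem_univ q)⟩
  intro s
  induction s using Finset.induction_on with
  | empty => exact ⟨L, 𝟙 L, fun p hp => absurd hp (Finset.notMem_empty p)⟩
  | insert q s _ ih =>
    obtain ⟨M, ψ, hψ⟩ := ih
    obtain ⟨l, φ, hφ⟩ := h q
    obtain ⟨N, f, g, hfg⟩ := IsFiltered.span ψ φ
    have e : ∀ {Z : I} (α : L ⟶ Z) (β : Z ⟶ N) (p : κ) (x : (D.obj L).obj.obj (op (O p))),
        (D.map (α ≫ β)).hom.app (op (O p)) x = (D.map β).hom.app (op (O p)) ((D.map α).hom.app (op (O p)) x) :=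
      fun α β p x => by rw [Functor.map_comp]; rfl
    refine ⟨N, ψ ≫ f, fun p hp => ?_⟩
    rcases Finset.mem_insert.1 hp with rfl | hp'
    · rw [hfg, e, e, hφ]
    · rw [e, e, hψ p hp']

theorem surj_of_compact_injective [IsFiltered I] (hc : IsColimit c)
    (hD : ∀ (i j : I) (h : i ⟶ j) (V : Opens X), Function.Injective ((D.map h).hom.app (op V)))
    {U : Opens X} (hU : IsCompact (U : Set X)) (s : c.pt.obj.obj (op U)) : ∃ i x, m c i U x = s := by
  classical
  choose W hW i x hp hx using fun p : U => loc_surj hc s p.1 p.2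
  obtain ⟨t, ht⟩ := hU.elim_finite_subcover (fun p : U => (W p : Set X)) (fun p => (W p).isOpen)
    (fun q hq => Set.mem_iUnion.2 ⟨⟨q, hq⟩, hp _⟩)
  obtain ⟨L, hL⟩ := IsFiltered.sup_objs_exists (t.image i)
  let g : ∀ p : t, i p.1 ⟶ L := fun p => (hL (Finset.mem_image_of_mem i p.2)).some
  let y : ∀ p : t, (D.obj L).obj.obj (op (W p.1)) := fun p => (D.map (g p)).hom.app (op (W p.1)) (x p.1)
  have hy : ∀ p, m c L (W p.1) (y p) = c.pt.obj.map (homOfLE (hW p.1)).op s :=
    fun p => (m_stage _ _ _).trans (hx p.1)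
  refine ⟨L, mem_range_of_glue L s (fun p : t => W p.1) (fun p => hW p.1) (fun q hq => ?_) y hy fun p q => ?_⟩
  · obtain ⟨j, hj, hqj⟩ := Set.mem_iUnion₂.1 (ht hq)
    exact Opens.mem_iSup.2 ⟨⟨j, hj⟩, hqj⟩
  · refine inj_of_injective hc hD L _ (Eq.trans (NatTrans.naturality_apply (c.ι.app L).hom _ _)
      (Eq.trans ?_ (NatTrans.naturality_apply (c.ι.app L).hom _ _).symm))
    show c.pt.obj.map _ (m c L _ (y p)) = c.pt.obj.map _ (m c L _ (y q))
    rw [hy, hy, ← FunctorToTypes.map_comp_apply, ← FunctorToTypes.map_comp_apply]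
    rfl

theorem compact_of_refine {U : Opens X}
    (h : ∀ 𝒱 : Set (Opens X), (⨆ V ∈ 𝒱, V) = U → ∃ (n : ℕ) (W : Fin n → Opens X),
      (∀ j, ∃ V ∈ 𝒱, W j ≤ V) ∧ (⨆ j, W j) = U ∧ ∀ j j', IsCompact ((W j ⊓ W j' : Opens X) : Set X)) :
    IsCompact (U : Set X) := by
  obtain ⟨n, W, -, hWU, hWc⟩ := h {U} (by simp)
  rw [← hWU, Opens.coe_iSup]
  exact isCompact_iUnion fun j => by simpa using hWc j j

theorem surj_of_refine [IsFiltered I] (hc : IsColimit c) {U : Opens X}
    (h : ∀ 𝒱 : Set (Opens X), (⨆ V ∈ 𝒱, V) = U → ∃ (n : ℕ) (W : Fin n → Opens X),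
      (∀ j, ∃ V ∈ 𝒱, W j ≤ V) ∧ (⨆ j, W j) = U ∧ ∀ j j', IsCompact ((W j ⊓ W j' : Opens X) : Set X))
    (s : c.pt.obj.obj (op U)) : ∃ i x, m c i U x = s := by
  classical
  obtain ⟨n, W, hWV, hWU, hWc⟩ := h {V | ∃ (hV : V ≤ U) (i : I) (x : (D.obj i).obj.obj (op V)),
      m c i V x = c.pt.obj.map (homOfLE hV).op s} (le_antisymm (iSup₂_le fun V hV => hV.1) fun p hp => by
    obtain ⟨V, hV, i, x, hpV, hx⟩ := loc_surj hc s p hp
    exact Opens.mem_iSup.2 ⟨V, Opens.mem_iSup.2 ⟨⟨hV, i, x, hx⟩, hpV⟩⟩)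
  choose V hV hle using hWV
  choose hVU i x hx using hV
  obtain ⟨L, hL⟩ := IsFiltered.sup_objs_exists (Finset.univ.image i)
  let g : ∀ j, i j ⟶ L := fun j => (hL (Finset.mem_image_of_mem i (Finset.mem_univ j))).some
  let y : ∀ j, (D.obj L).obj.obj (op (W j)) := fun j =>
    (D.obj L).obj.map (homOfLE (hle j)).op ((D.map (g j)).hom.app (op (V j)) (x j))
  have hy : ∀ j, m c L (W j) (y j) = c.pt.obj.map (homOfLE ((hle j).trans (hVU j))).op s := fun j => by
    refine (m_map L (hle j) _).trans ?_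
    rw [m_stage, hx, ← FunctorToTypes.map_comp_apply]
    rfl
  obtain ⟨M, ψ, hψ⟩ := common_eq (fun q : Fin n × Fin n => W q.1 ⊓ W q.2)
    (fun q => (D.obj L).obj.map (Opens.infLELeft _ _).op (y q.1))
    (fun q => (D.obj L).obj.map (Opens.infLERight _ _).op (y q.2)) fun q => by
      refine eq_of_compact hc (hWc q.1 q.2) _ _ (Eq.trans (NatTrans.naturality_apply (c.ι.app L).hom _ _)
        (Eq.trans ?_ (NatTrans.naturality_apply (c.ι.app L).hom _ _).symm))
      show c.pt.obj.map _ (m c L _ (y q.1)) = c.pt.obj.map _ (m c L _ (y q.2))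
      rw [hy, hy, ← FunctorToTypes.map_comp_apply, ← FunctorToTypes.map_comp_apply]
      rfl
  refine ⟨M, mem_range_of_glue M s W (fun j => (hle j).trans (hVU j)) hWU.ge
    (fun j => (D.map ψ).hom.app (op (W j)) (y j)) (fun j => (m_stage _ _ _).trans (hy j)) fun a b => ?_⟩
  exact (NatTrans.naturality_apply (D.map ψ).hom _ _).symm.trans
    ((hψ (a, b)).trans (NatTrans.naturality_apply (D.map ψ).hom _ _))

end Groth.Agent.ShSpColim.Basic
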